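import Groth.Agent.Etcore.FGLim
import Groth.Prelude.Def_PicLoc
import Groth.Prelude.Def_AlgSpRep

/-!
# `Spec A` as the limit of the spectra of the finitely generated subalgebras of `A`

`fgC k A` is a limit cone in schemes with vertex `PicLoc.spc k A` over the diagram of the
`PicLoc.spc k C`, `C` a finitely generated `k`-subalgebra of `A`.

* `exists_fg`: for a limit preserving presheaf `F` on `k`-schemes, every section over `Spec A` comes from
  some finitely generated subalgebra.
* `exists_fg_eq`: two sections over `Spec C` with the same image over `Spec A` have the same image over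
  some larger finitely generated subalgebra.
-/

set_option autoImplicit false
universe u
open CategoryTheory CategoryTheory.Limits AlgebraicGeometry Opposite
open Groth.Agent.Etcore.FGLim

namespace K729.FGCone

variable (k : Type u) [CommRing k] (A : Type u) [CommRing A] [Algebra k A]

/-- The diagram of the spectra of finitely generated subalgebras. -/
noncomputable def fgD : (FGSub k A)ᵒᵖ ⥤ Over (PicLoc.base k) where
  obj C := PicLoc.spc k C.unop.1
  map a := PicLoc.spcMap k (Subalgebra.inclusion a.unop.le)
  map_id C := by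
    apply Over.OverMorphism.ext
    exact Spec.map_id _
  map_comp a b := by
    apply Over.OverMorphism.ext
    change Spec.map _ = Spec.map _ ≫ Spec.map _
    rw [← Spec.map_comp]
    rfl

/-- The cone with vertex `Spec A`. -/
noncomputable def fgC : Cone (fgD k A) where
  pt := PicLoc.spc k A
  π :=
    { app := fun C => PicLoc.spcMap k C.unop.1.val
      naturality := fun C C' a => by
        apply Over.OverMorphism.ext
        change 𝟙 _ ≫ Spec.map _ = Spec.map _ ≫ Spec.map _
        rw [← Spec.map_comp, Category.id_comp]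
        rfl }

/-- `Spec A` is the limit of the spectra of its finitely generated subalgebras. -/
noncomputable def isLimitFgC : IsLimit ((Over.forget (PicLoc.base k)).mapCone (fgC k A)) :=
  isLimitOfPreserves Scheme.Spec (isColimitFG k A).op

variable {k A}

theorem nonempty_isColimit (F : AlgSp.PSp (PicLoc.base k)) (hF : AlgSp.IsLimitPreserving F) :
    Nonempty (IsColimit (F.mapCocone (fgC k A).op)) :=
  hF (fgD k A) (fgC k A) (isLimitFgC k A) (fun i => inferInstanceAs (IsAffine (Spec _)))
    (inferInstanceAs (IsAffine (Spec _)))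

theorem exists_fg (F : AlgSp.PSp (PicLoc.base k)) (hF : AlgSp.IsLimitPreserving F)
    (ξ : F.obj (op (PicLoc.spc k A))) :
    ∃ (C : Subalgebra k A) (_ : C.FG) (ξ₀ : F.obj (op (PicLoc.spc k C))),
      F.map (PicLoc.spcMap k C.val).op ξ₀ = ξ := by
  obtain ⟨hc⟩ := nonempty_isColimit (A := A) F hF
  obtain ⟨C, ξ₀, h⟩ := Types.jointly_surjective_of_isColimit hc ξ
  exact ⟨C.unop.unop.1, C.unop.unop.2, ξ₀, h⟩

theorem exists_fg_eq (F : AlgSp.PSp (PicLoc.base k)) (hF : AlgSp.IsLimitPreserving F)
    {C : Subalgebra k A} (hC : C.FG) (ξ ξ' : F.obj (op (PicLoc.spc k C)))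
    (h : F.map (PicLoc.spcMap k C.val).op ξ = F.map (PicLoc.spcMap k C.val).op ξ') :
    ∃ (C' : Subalgebra k A) (_ : C'.FG) (hCC' : C ≤ C'),
      F.map (PicLoc.spcMap k (Subalgebra.inclusion hCC')).op ξ =
        F.map (PicLoc.spcMap k (Subalgebra.inclusion hCC')).op ξ' := by
  obtain ⟨hc⟩ := nonempty_isColimit (A := A) F hF
  obtain ⟨j, a, b, hab⟩ := (Types.FilteredColimit.isColimit_eq_iff (F := (fgD k A).op ⋙ F) (ht := hc)
    (i := op (op ⟨C, hC⟩)) (j := op (op ⟨C, hC⟩)) (xi := ξ) (xj := ξ')).mp h
  refine ⟨j.unop.unop.1, j.unop.unop.2, a.unop.unop.le, ?_⟩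
  have : a = b := Subsingleton.elim _ _
  subst this
  exact hab

end K729.FGCone
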